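import Groth.Agent.H27KZero.Devissage
import Groth.Agent.H06Mod.StalkExact
import Groth.Agent.H06Mod.StalkFinite
import Groth.Agent.H16Derived.ProjFormula.ClosedImm
import Groth.Agent.H06EGA9.StructureStalk
import Groth.Agent.H17.AssFlatAlg
import Groth.Agent.H8Props.Generic
import Groth.Agent.H17.Reduced
import Groth.Prelude.Def_SGA6
import Mathlib

/-!
# Lengths at the points of codimension zero on K₀ of coherent modules
-/

set_option autoImplicit false
set_option linter.style.haveILetI false
universe u

open CategoryTheory CategoryTheory.Limits AlgebraicGeometry TopologicalSpace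

namespace Groth.Agent.H25K

variable {X : Scheme.{u}}

/-- The structure module of the reduced subscheme on a closed set, pushed forward. -/
noncomputable def redMod (C : Closeds X) : X.Modules :=
  (Coh.push (Scheme.IdealSheafData.vanishingIdeal C).subschemeι).obj
    (Coh.structureModule (Scheme.IdealSheafData.vanishingIdeal C).subscheme)

theorem isCoh_redMod [IsNoetherian X] (C : Closeds X) : Coh.IsCoh (redMod C) :=
  LeadDev.isCoh_push_structure _

theorem range_subschemeι (C : Closeds X) :
    Set.range (Scheme.IdealSheafData.vanishingIdeal C).subschemeι = (C : Set X) := by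
  rw [Scheme.IdealSheafData.range_subschemeι, Scheme.IdealSheafData.coe_support_vanishingIdeal]

theorem support_redMod_subset (C : Closeds X) : CohB1.support (redMod C) ⊆ C := fun x hx => by
  by_contra h
  exact LeadDev.notMem_support_push (Scheme.IdealSheafData.vanishingIdeal C).subschemeι _
    (by rw [range_subschemeι]; exact h) hx

theorem length_redMod {z : X} (C : Closeds X) (hC : (C : Set X) = closure {z}) :
    Module.length (X.presheaf.stalk z) ((redMod C).presheaf.stalk z) = 1 := by
  let Z := (Scheme.IdealSheafData.vanishingIdeal C).subscheme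
  let i := (Scheme.IdealSheafData.vanishingIdeal C).subschemeι
  obtain ⟨w, rfl⟩ : z ∈ Set.range i := by rw [range_subschemeι, hC]; exact subset_closure rfl
  haveI : IsReduced Z := H17.isReduced_vanishingIdeal_subscheme C
  haveI : _root_.IsReduced (Z.presheaf.stalk w) := inferInstance
  have hmax : ∀ v : Z, v ⤳ w → v = w := fun v hv => by
    have hv' : i v ∈ closure {i w} := hC ▸ range_subschemeι C ▸ Set.mem_range_self v
    exact i.isClosedEmbedding.injective
      (Specializes.antisymm (hv.map i.continuous) (specializes_iff_mem_closure.2 hv')).eq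
  have hdim : ringKrullDim (Z.presheaf.stalk w) = 0 := by
    rw [ringKrullDim_stalk_eq_coheight, WithBot.coe_eq_zero, Order.coheight_eq_zero]
    intro v hv
    exact (hmax v hv).symm ▸ le_rfl
  haveI : Ring.KrullDimLE 0 (Z.presheaf.stalk w) := Ring.krullDimLE_iff.2 hdim.le
  have hfld : IsField (Z.presheaf.stalk w) := Ring.KrullDimLE.isField_of_isReduced
  show Module.length (X.presheaf.stalk (i w)) (((H16Derived.ProjFormula.push i).obj (Coh.structureModule Z)).presheaf.stalk (i.base w)) = 1
  rw [H17.AssFlat.length_eq (i.stalkMap w).hom (i.stalkMap_surjective w)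
    (AddEquiv.ofBijective _ (H16Derived.ProjFormula.pushStalk_bijective i (Coh.structureModule Z) w))
    (H16Derived.ProjFormula.pushStalk_smul i (Coh.structureModule Z) w),
    ← (LinearEquiv.ofBijective (LinearMap.toSpanSingleton (Z.presheaf.stalk w) _ (H06EGA9.oneStalk w))
      (H06EGA9.bijective_smul_oneStalk w)).length_eq]
  letI := hfld.toField
  exact Module.length_eq_one_iff.2 inferInstance

theorem length_stalk_lt_top [IsLocallyNoetherian X] (M : X.Modules) (hM : Coh.IsCoh M) {x : X}
    (hx : ringKrullDim (X.presheaf.stalk x) = 0) :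
    Module.length (X.presheaf.stalk x) (M.presheaf.stalk x) ≠ ⊤ := by
  haveI := H06Mod.finite_stalk M hM.2 x
  haveI : Ring.KrullDimLE 0 (X.presheaf.stalk x) := Ring.krullDimLE_iff.2 hx.le
  haveI : IsArtinianRing (X.presheaf.stalk x) := isArtinianRing_iff_krullDimLE_zero.2 inferInstance
  exact Module.length_ne_top_iff.2 (isFiniteLength_iff_isNoetherian_isArtinian.2 ⟨inferInstance, inferInstance⟩)

theorem length_add (S : ShortComplex X.Modules) (hS : S.ShortExact) (x : X) :
    Module.length (X.presheaf.stalk x) (S.X₂.presheaf.stalk x) =
      Module.length (X.presheaf.stalk x) (S.X₁.presheaf.stalk x) +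
        Module.length (X.presheaf.stalk x) (S.X₃.presheaf.stalk x) :=
  Module.length_eq_add_of_exact _ _ (H06Mod.stalk_injective S hS x) (H06Mod.stalk_surjective S hS x)
    (H06Mod.stalk_exact S hS x)

theorem eq_of_specializes_of_dim_zero {x y : X} (hx : ringKrullDim (X.presheaf.stalk x) = 0)
    (h : y ⤳ x) : y = x := by
  rw [ringKrullDim_stalk_eq_coheight, WithBot.coe_eq_zero, Order.coheight_eq_zero] at hx
  exact (Specializes.antisymm (hx h) h).eq.symm

theorem finite_dim_zero [IsNoetherian X] :
    Finite {x : X // ringKrullDim (X.presheaf.stalk x) = 0} := by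
  haveI : NoetherianSpace X := inferInstance
  refine Set.Finite.to_subtype ((genericPoints.finite
    (NoetherianSpace.finite_irreducibleComponents (α := X))).subset fun x hx => ?_)
  exact H8Props.mem_genericPoints_iff.2 fun y hy => eq_of_specializes_of_dim_zero hx hy

end Groth.Agent.H25K
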